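import Groth.Agent.VanLocus.Affine
import Groth.Agent.S1391

/-!
The closed subscheme where a morphism to a flat finitely presented module on a proper scheme vanishes.
-/

set_option autoImplicit false
set_option backward.isDefEq.respectTransparency false
set_option backward.isDefEq.respectTransparency.types false
set_option linter.style.haveILetI false
set_option maxHeartbeats 1000000

universe u

open CategoryTheory CategoryTheory.Limits AlgebraicGeometry TopologicalSpace Opposite
open Groth.Agent.QC (res resO res_res res_smul res_self app_res)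

noncomputable section

namespace Groth.Agent.VanLocus

/-- pullback along an isomorphism reflects vanishing -/
theorem eq_zero_of_map_iso {Z Y : Scheme.{u}} (e : Z ⟶ Y) [IsIso e] {A B : Y.Modules} (v : A ⟶ B)
    (h : (Scheme.Modules.pullback e).map v = 0) : v = 0 := by
  have h1 : (Scheme.Modules.pullback (inv e ≫ e)).map v = 0 := by
    rw [map_eq_zero_comp_iff (inv e) e rfl, h, Functor.map_zero]
  let τ := Scheme.Modules.pullbackCongr (IsIso.inv_hom_id e) ≪≫ Scheme.Modules.pullbackId Y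
  have hn := τ.hom.naturality v
  rw [h1, zero_comp, Functor.id_map] at hn
  exact (cancel_epi (τ.hom.app A)).1 (hn.symm.trans comp_zero.symm)

theorem eq_zero_of_restrict {Y : Scheme.{u}} {A B : Y.Modules} (v : A ⟶ B) {κ : Type*} (P : κ → Y.Opens)
    (hP : ∀ y, ∃ i, y ∈ P i) (h : ∀ i, (Scheme.Modules.pullback (P i).ι).map v = 0) : v = 0 :=
  Scheme.Modules.hom_ext _ _ fun U => by
    ext s
    refine QC.section_eq_of_locally fun y hy => ?_
    obtain ⟨i, hi⟩ := hP y
    let V := U ⊓ P i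
    refine ⟨V, inf_le_left, ⟨hy, hi⟩, ?_⟩
    refine (app_res v (inf_le_left : V ≤ U) s).trans (Eq.trans ?_ (app_res 0 (inf_le_left : V ≤ U) s).symm)
    have hr : (Scheme.Modules.restrictFunctor (P i).ι).map v = 0 := by
      have := (Scheme.Modules.restrictFunctorIsoPullback (P i).ι).hom.naturality v
      rw [h i, comp_zero] at this
      exact (cancel_mono ((Scheme.Modules.restrictFunctorIsoPullback (P i).ι).hom.app B)).1 (this.trans zero_comp.symm)
    have himg : (P i).ι ''ᵁ ((P i).ι ⁻¹ᵁ V) = V := by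
      refine Opens.ext ?_
      change (P i).ι '' ((P i).ι ⁻¹' (V : Set Y)) = (V : Set Y)
      rw [Set.image_preimage_eq_inter_range, Scheme.Opens.range_ι]
      exact Set.inter_eq_left.2 inf_le_right
    have key : ∀ t : Γ(A, (P i).ι ''ᵁ ((P i).ι ⁻¹ᵁ V)), v.app _ t = 0 := fun t =>
      congrArg (fun φ : A.restrict (P i).ι ⟶ B.restrict (P i).ι => φ.app ((P i).ι ⁻¹ᵁ V) t) hr
    rw [himg] at key
    exact key _

variable {Y S : Scheme.{u}} (q : Y ⟶ S) {G F : Y.Modules} (σ : G ⟶ F)

/-- vanishing after base change along `g` -/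
def VanG {T : Scheme.{u}} (g : T ⟶ S) : Prop := (Scheme.Modules.pullback (pullback.fst q g)).map σ = 0

theorem vanG_iff {T : Scheme.{u}} (g : T ⟶ S) {Y' : Scheme.{u}} (a : Y' ⟶ Y) (b : Y' ⟶ T)
    (sq : IsPullback a b q g) : VanG q σ g ↔ (Scheme.Modules.pullback a).map σ = 0 := by
  rw [map_eq_zero_comp_iff sq.isoPullback.hom (pullback.fst q g) sq.isoPullback_hom_fst σ]
  exact ⟨fun h => by rw [show (Scheme.Modules.pullback (pullback.fst q g)).map σ = 0 from h, Functor.map_zero],
    fun h => eq_zero_of_map_iso _ _ h⟩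

theorem VanG.comp {T T' : Scheme.{u}} {g : T ⟶ S} (k : T' ⟶ T) (h : VanG q σ g) : VanG q σ (k ≫ g) := by
  let c : Limits.pullback q (k ≫ g) ⟶ Limits.pullback q g :=
    pullback.lift (pullback.fst q (k ≫ g)) (pullback.snd q (k ≫ g) ≫ k) (by rw [Category.assoc]; exact pullback.condition)
  show (Scheme.Modules.pullback _).map σ = 0
  rw [map_eq_zero_comp_iff c (pullback.fst q g) (pullback.lift_fst _ _ _) σ,
    show (Scheme.Modules.pullback (pullback.fst q g)).map σ = 0 from h, Functor.map_zero]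

theorem vanG_of_cover {T : Scheme.{u}} (g : T ⟶ S) {κ : Type*} (W : κ → T.Opens) (hW : ∀ t, ∃ i, t ∈ W i)
    (h : ∀ i, VanG q σ ((W i).ι ≫ g)) : VanG q σ g := by
  refine eq_zero_of_restrict _ (fun i => pullback.snd q g ⁻¹ᵁ W i) (fun y => hW (pullback.snd q g y)) fun i => ?_
  refine (map_eq_zero_comp_iff _ (pullback.fst q g) rfl σ).1 ?_
  exact (vanG_iff q σ _ _ _ ((isPullback_morphismRestrict (pullback.snd q g) (W i)).flip.paste_horiz
    (IsPullback.of_hasPullback q g))).1 (h i)

variable [IsProper q] [LocallyOfFinitePresentation q] [hG : Coh.IsQCoh G] [hq : Coh.IsQCoh F]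

include hG hq in
theorem exists_ideal_open (hF : CohB1.IsFP F) (hfl : FlatMod.IsFlatOver q F) (U : S.affineOpens) :
    ∃ I : Ideal Γ(S, U.1), ∀ (T : Type u) [CommRing T] (φ : Γ(S, U.1) →+* T),
      VanG q σ (Spec.map (CommRingCat.ofHom φ) ≫ U.2.fromSpec) ↔ I.map φ = ⊥ := by
  let qU : Limits.pullback q U.2.fromSpec ⟶ Spec (CommRingCat.of Γ(S, U.1)) := pullback.snd q U.2.fromSpec
  let a := pullback.fst q U.2.fromSpec
  haveI : IsProper qU := MorphismProperty.pullback_snd _ _ inferInstance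
  haveI : LocallyOfFinitePresentation qU := MorphismProperty.pullback_snd _ _ inferInstance
  haveI : Coh.IsQCoh ((Scheme.Modules.pullback a).obj G) := QC.isQCoh_pullback _ hG
  haveI : Coh.IsQCoh ((Scheme.Modules.pullback a).obj F) := QC.isQCoh_pullback _ hq
  obtain ⟨I, hI⟩ := exists_ideal_affine qU (ModDesc.isFP_pullback a hq hF)
    (fun x => Groth.Agent.S1391.result q qU a U.2.fromSpec (IsPullback.of_hasPullback _ _) F hq x (hfl (a x)))
    ((Scheme.Modules.pullback a).map σ)
  refine ⟨I, fun T _ φ => ?_⟩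
  letI : Algebra Γ(S, U.1) T := φ.toAlgebra
  refine Iff.trans ?_ (hI T)
  rw [vanG_iff q σ _ _ _ ((IsPullback.of_hasPullback qU (Spec.map (CommRingCat.ofHom φ))).paste_horiz
    (IsPullback.of_hasPullback q U.2.fromSpec)), map_eq_zero_comp_iff _ _ rfl σ]
  rfl

include hG hq in
/-- **The vanishing locus is a closed subscheme.** -/
theorem exists_closedImmersion (hF : CohB1.IsFP F) (hfl : FlatMod.IsFlatOver q F) :
    ∃ (Z : Scheme.{u}) (i : Z ⟶ S), IsClosedImmersion i ∧
      ∀ (T : Scheme.{u}) (g : T ⟶ S), (∃ h : T ⟶ Z, h ≫ i = g) ↔ VanG q σ g := by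
  choose I hI using exists_ideal_open q σ hF hfl
  let J : S.IdealSheafData :=
    { ideal := I
      map_ideal_basicOpen := fun U f => by
        let r := S.presheaf.map (homOfLE <| S.basicOpen_le f).op
        have key : ∀ (T : Type u) [CommRing T] (ψ : Γ(S, S.basicOpen f) →+* T),
            (I (S.affineBasicOpen f)).map ψ = ⊥ ↔ ((I U).map r.hom).map ψ = ⊥ := fun T _ ψ => by
          rw [← hI (S.affineBasicOpen f) T ψ, Ideal.map_map, ← hI U T (ψ.comp r.hom)]
          have : Spec.map (CommRingCat.ofHom (ψ.comp r.hom)) ≫ U.2.fromSpec =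
              Spec.map (CommRingCat.ofHom ψ) ≫ (U.2.basicOpen f).fromSpec := by
            rw [← U.2.map_fromSpec (U.2.basicOpen f) (homOfLE <| S.basicOpen_le f).op, ← Category.assoc, ← Spec.map_comp]
            rfl
          rw [this]
        refine le_antisymm ?_ ?_
        · have h1 := (key _ (Ideal.Quotient.mk (I (S.affineBasicOpen f)))).1
            ((Ideal.map_eq_bot_iff_le_ker _).2 (Ideal.mk_ker).ge)
          rw [Ideal.map_eq_bot_iff_le_ker, Ideal.mk_ker] at h1
          exact h1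
        · have h1 := (key _ (Ideal.Quotient.mk ((I U).map r.hom))).2
            ((Ideal.map_eq_bot_iff_le_ker _).2 (Ideal.mk_ker).ge)
          rw [Ideal.map_eq_bot_iff_le_ker, Ideal.mk_ker] at h1
          exact h1 }
  refine ⟨J.subscheme, J.subschemeι, inferInstance, fun T g => ?_⟩
  -- the condition on affine pieces
  have piece : ∀ (U : S.affineOpens) (W : T.Opens) (hW : IsAffineOpen W) (e : W ≤ g ⁻¹ᵁ U.1),
      VanG q σ (hW.fromSpec ≫ g) ↔ (I U).map (g.appLE U.1 W e).hom = ⊥ := fun U W hW e => by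
    rw [← hI U Γ(T, W) (g.appLE U.1 W e).hom, ← IsAffineOpen.SpecMap_appLE_fromSpec g U.2 hW e]
    rfl
  have hcov : ∀ t : T, ∃ UW : Σ' (U : S.affineOpens) (W : T.affineOpens), W.1 ≤ g ⁻¹ᵁ U.1, t ∈ UW.2.1.1 := fun t => by
    obtain ⟨U, hU, htU, -⟩ := exists_isAffineOpen_mem_and_subset (X := S) (x := g t) (U := ⊤) trivial
    obtain ⟨W, hW, htW, hWU⟩ := exists_isAffineOpen_mem_and_subset (X := T) (x := t) (U := g ⁻¹ᵁ U) htU
    exact ⟨⟨⟨U, hU⟩, ⟨W, hW⟩, hWU⟩, htW⟩
  constructor
  · rintro ⟨h, rfl⟩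
    refine vanG_of_cover q σ _ (fun UW : Σ' (U : S.affineOpens) (W : T.affineOpens), W.1 ≤ (h ≫ J.subschemeι) ⁻¹ᵁ U.1 => UW.2.1.1)
      hcov fun ⟨U, W, e⟩ => ?_
    have hv : VanG q σ (W.2.fromSpec ≫ h ≫ J.subschemeι) := by
      refine (piece U W.1 W.2 e).2 ((Ideal.map_eq_bot_iff_le_ker _).2 fun x hx => ?_)
      have hx0 : (J.subschemeι.app U.1).hom x = 0 := by
        have : x ∈ RingHom.ker (J.subschemeι.app U.1).hom := by rw [J.ker_subschemeι_app]; exact hx
        exact this
      rw [RingHom.mem_ker, Scheme.Hom.comp_appLE, CommRingCat.comp_apply, hx0, map_zero]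
    rw [show W.1.ι ≫ h ≫ J.subschemeι = W.2.isoSpec.hom ≫ W.2.fromSpec ≫ h ≫ J.subschemeι by
      rw [IsAffineOpen.isoSpec_hom_fromSpec_assoc]]
    exact hv.comp q σ _
  · intro hv
    have hle : J.subschemeι.ker ≤ g.ker := by
      rw [Scheme.IdealSheafData.ker_subschemeι]
      refine Scheme.IdealSheafData.le_ofIdeals_iff.2 fun U x hx => ?_
      rw [RingHom.mem_ker]
      refine TopCat.Sheaf.eq_of_locally_eq' T.sheaf (fun W : {W : T.affineOpens // W.1 ≤ g ⁻¹ᵁ U.1} => W.1.1)
        (g ⁻¹ᵁ U.1) (fun W => homOfLE W.2) (fun t ht => ?_) _ _ fun W => ?_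
      · obtain ⟨W, hW, htW, hWU⟩ := exists_isAffineOpen_mem_and_subset (X := T) (x := t) (U := g ⁻¹ᵁ U.1) ht
        exact Opens.mem_iSup.2 ⟨⟨⟨W, hW⟩, hWU⟩, htW⟩
      · rw [map_zero]
        exact (Ideal.map_eq_bot_iff_le_ker _).1 ((piece U W.1.1 W.1.2 W.2).1 (hv.comp q σ _)) hx
    exact ⟨IsClosedImmersion.lift J.subschemeι g hle, IsClosedImmersion.lift_fac _ _ hle⟩

end Groth.Agent.VanLocus
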