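import Groth.Agent.VanLocus.Scheme
import Groth.Agent.Nakai.PullIdeal
import Groth.Agent.SchDense.Unit
import Groth.Agent.QC.IdealMod

/-!
Weil restriction of a closed subscheme along a proper flat morphism of finite presentation is a closed subscheme.
-/

set_option autoImplicit false
set_option linter.style.haveILetI false
set_option maxHeartbeats 1000000
set_option backward.isDefEq.respectTransparency false
set_option backward.isDefEq.respectTransparency.types false
universe u

open CategoryTheory CategoryTheory.Limits AlgebraicGeometry TopologicalSpace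

noncomputable section

namespace Groth.Agent.VanLocus

variable {X X' S : Scheme.{u}}

/-- the inclusion of an ideal module pulls back to zero iff the inverse image ideal is zero -/
theorem map_idealModι_eq_zero_iff (a : X' ⟶ X) (J : X.IdealSheafData) :
    (Scheme.Modules.pullback a).map (ClSub.idealModι J) = 0 ↔ J.comap a = ⊥ := by
  have h0 : (Scheme.Modules.pullback a).map (ClSub.idealModι J) = 0 ↔ Nakai.pullToOne a J = 0 := by
    unfold Nakai.pullToOne
    constructor
    · intro h
      rw [h, zero_comp]
    · intro h
      rw [← cancel_mono (PicLoc.pullbackStructureIso a).hom, h, zero_comp]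
  rw [h0]
  constructor
  · intro h
    refine le_bot_iff.1 (Scheme.IdealSheafData.le_map_iff_comap_le.1 ?_)
    rw [Scheme.IdealSheafData.map_bot]
    refine Scheme.IdealSheafData.le_ofIdeals_iff.2 fun U x hx => ?_
    obtain ⟨g, hg⟩ := (QC.mem_range_idealModι_affine J U x).2 hx
    rw [RingHom.mem_ker]
    have hp := Nakai.pullToOne_pullSect a J g
    rw [h, hg] at hp
    exact hp.symm
  · intro h
    let adj := Scheme.Modules.pullbackPushforwardAdjunction a
    apply (adj.homEquiv _ _).injective
    haveI : Coh.IsQCoh (ClSub.idealMod J) := QC.isQCoh_idealMod J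
    refine hom_eq_zero_of_cover _ (fun U : X.affineOpens => U.1) (fun U => U.2) (fun x => by
      obtain ⟨V, hV, hxV, -⟩ := exists_isAffineOpen_mem_and_subset (X := X) (x := x) (U := ⊤) trivial
      exact ⟨⟨V, hV⟩, hxV⟩) (fun U g => ?_) |>.trans ?_
    · rw [adj.homEquiv_unit]
      refine (Nakai.pullToOne_pullSect a J g).trans ?_
      have hle : J ≤ a.ker := by
        rw [← Scheme.IdealSheafData.map_bot, Scheme.IdealSheafData.le_map_iff_comap_le, h]
      have hx := hle U ((QC.mem_range_idealModι_affine J U _).1 ⟨g, rfl⟩)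
      exact RingHom.mem_ker.1 (Scheme.IdealSheafData.ideal_ofIdeals_le _ U hx)
    · rw [adj.homEquiv_unit, Functor.map_zero, comp_zero]

/-- **Weil restriction of a closed subscheme.** -/
theorem exists_weilClosed (q : X ⟶ S) [IsProper q] [LocallyOfFinitePresentation q] [Flat q] (J : X.IdealSheafData) :
    ∃ (Z : Scheme.{u}) (i : Z ⟶ S), IsClosedImmersion i ∧
      ∀ (T : Scheme.{u}) (g : T ⟶ S), (∃ h : T ⟶ Z, h ≫ i = g) ↔ J.comap (pullback.fst q g) = ⊥ := by
  haveI : Coh.IsQCoh (ClSub.idealMod J) := QC.isQCoh_idealMod J
  haveI : Coh.IsQCoh (Coh.structureModule X) := QC.isQCoh_unit X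
  obtain ⟨Z, i, hi, hZ⟩ := exists_closedImmersion q (ClSub.idealModι J) (SchDense.isFP_unit X)
    (SchDense.isFlatOver_unit q)
  exact ⟨Z, i, hi, fun T g => (hZ T g).trans (map_idealModι_eq_zero_iff _ J)⟩

end Groth.Agent.VanLocus
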