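import Groth.Agent.VanLocus.Crit
import Groth.Agent.RG.Loc.Common
import Groth.Agent.RG.Loc.Reduce
import Groth.Agent.FlatModB.Basic
import Groth.Agent.LocFree.Props
import Mathlib.RingTheory.RingHom.FinitePresentation

/-!
Affine opens with projective sections, after an etale localisation of the base, along a fibre of a flat
finitely presented module.
-/

set_option autoImplicit false
set_option backward.isDefEq.respectTransparency false
set_option backward.isDefEq.respectTransparency.types false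
set_option linter.style.haveILetI false
set_option maxHeartbeats 1000000

universe u

open CategoryTheory CategoryTheory.Limits AlgebraicGeometry TopologicalSpace Opposite
open Groth.Agent.QC (res resO res_res res_smul res_self app_res)
open scoped TensorProduct

noncomputable section

namespace Groth.Agent.VanLocus

variable {X X' : Scheme.{u}} {R R' : Type u} [CommRing R] [CommRing R']

/-- an affine open with projective sections -/
def Good (R : Type u) [CommRing R] {X : Scheme.{u}} (q : X ⟶ Spec (CommRingCat.of R)) (F : X.Modules)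
    (W : X.Opens) : Prop :=
  letI : X.Over (Spec (CommRingCat.of R)) := ⟨q⟩
  IsAffineOpen W ∧ Module.Projective R ((W7Cech.secA R W).obj F : Type u)

variable {q : X ⟶ Spec (CommRingCat.of R)} {F : X.Modules} {W : X.Opens}

theorem Good.congr {F' : X.Modules} (e : F ≅ F') (h : Good R q F W) : Good R q F' W := by
  letI : X.Over (Spec (CommRingCat.of R)) := ⟨q⟩
  haveI := h.2
  exact ⟨h.1, Module.Projective.of_equiv ((W7Cech.secA R W).mapIso e).toLinearEquiv⟩

theorem Good.pullback [Algebra R R'] [hF : Coh.IsQCoh F] (a : X' ⟶ X) (b : X' ⟶ Spec (CommRingCat.of R'))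
    (sq : IsPullback a b q (Spec.map (CommRingCat.ofHom (algebraMap R R')))) (h : Good R q F W) :
    Good R' b ((Scheme.Modules.pullback a).obj F) (a ⁻¹ᵁ W) := by
  letI : X.Over (Spec (CommRingCat.of R)) := ⟨q⟩
  letI : X'.Over (Spec (CommRingCat.of R')) := ⟨b⟩
  haveI := W7Cech.isAffineHom_bc R R' a sq
  haveI := h.2
  refine ⟨h.1.preimage a, ?_⟩
  letI := Module.compHom (((W7Cech.secA R' (a ⁻¹ᵁ W)).obj ((Scheme.Modules.pullback a).obj F) : ModuleCat.{u} R') : Type u)
    (algebraMap R R')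
  haveI : IsScalarTower R R' (((W7Cech.secA R' (a ⁻¹ᵁ W)).obj ((Scheme.Modules.pullback a).obj F) : ModuleCat.{u} R') : Type u) :=
    IsScalarTower.of_algebraMap_smul fun _ _ => rfl
  exact Module.Projective.of_equiv (W7Cech.isBaseChange_pullSec R R' a sq hF h.1).equiv

theorem fromSpec_comp {V : X.Opens} (hV : IsAffineOpen V) (q : X ⟶ Spec (CommRingCat.of R)) :
    letI : X.Over (Spec (CommRingCat.of R)) := ⟨q⟩
    hV.fromSpec ≫ q = Spec.map (CommRingCat.ofHom (W7Cech.secRing R V)) := by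
  letI : X.Over (Spec (CommRingCat.of R)) := ⟨q⟩
  rw [← IsAffineOpen.SpecMap_appLE_fromSpec q (isAffineOpen_top _) hV le_top, IsAffineOpen.fromSpec_top,
    Scheme.isoSpec_Spec_inv, ← Spec.map_comp]
  rfl

theorem comap_primeIdealOf {V : X.Opens} (hV : IsAffineOpen V) (q : X ⟶ Spec (CommRingCat.of R)) {x : X} (hx : x ∈ V) :
    letI : X.Over (Spec (CommRingCat.of R)) := ⟨q⟩
    (hV.primeIdealOf ⟨x, hx⟩).asIdeal.comap (W7Cech.secRing R V) = (q x).asIdeal := by
  letI : X.Over (Spec (CommRingCat.of R)) := ⟨q⟩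
  have h : (hV.fromSpec ≫ q) (hV.primeIdealOf ⟨x, hx⟩) =
      Spec.map (CommRingCat.ofHom (W7Cech.secRing R V)) (hV.primeIdealOf ⟨x, hx⟩) := by rw [fromSpec_comp hV q]; rfl
  rw [Scheme.Hom.comp_apply, hV.fromSpec_primeIdealOf ⟨x, hx⟩] at h
  exact (congrArg PrimeSpectrum.asIdeal h).symm

theorem isPushout_sections [Algebra R R'] (a : X' ⟶ X) (b : X' ⟶ Spec (CommRingCat.of R'))
    (sq : IsPullback a b q (Spec.map (CommRingCat.ofHom (algebraMap R R')))) {V : X.Opens} (hV : IsAffineOpen V) :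
    letI : X.Over (Spec (CommRingCat.of R)) := ⟨q⟩
    letI : X'.Over (Spec (CommRingCat.of R')) := ⟨b⟩
    letI : Algebra R ↑Γ(X, V) := (W7Cech.secRing R V).toAlgebra
    letI : Algebra R' ↑Γ(X', a ⁻¹ᵁ V) := (W7Cech.secRing R' (a ⁻¹ᵁ V)).toAlgebra
    letI : Algebra ↑Γ(X, V) ↑Γ(X', a ⁻¹ᵁ V) := (a.app V).hom.toAlgebra
    letI : Algebra R ↑Γ(X', a ⁻¹ᵁ V) := ((algebraMap R' ↑Γ(X', a ⁻¹ᵁ V)).comp (algebraMap R R')).toAlgebra
    haveI : IsScalarTower R R' ↑Γ(X', a ⁻¹ᵁ V) := IsScalarTower.of_algebraMap_eq fun _ => rfl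
    haveI : IsScalarTower R ↑Γ(X, V) ↑Γ(X', a ⁻¹ᵁ V) :=
      IsScalarTower.of_algebraMap_eq fun r => (W7Cech.secRing_comm R R' a sq V r).symm
    Algebra.IsPushout R R' ↑Γ(X, V) ↑Γ(X', a ⁻¹ᵁ V) := by
  letI : X.Over (Spec (CommRingCat.of R)) := ⟨q⟩
  letI : X'.Over (Spec (CommRingCat.of R')) := ⟨b⟩
  letI : Algebra R ↑Γ(X, V) := (W7Cech.secRing R V).toAlgebra
  letI : Algebra R' ↑Γ(X', a ⁻¹ᵁ V) := (W7Cech.secRing R' (a ⁻¹ᵁ V)).toAlgebra
  letI : Algebra ↑Γ(X, V) ↑Γ(X', a ⁻¹ᵁ V) := (a.app V).hom.toAlgebra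
  letI : Algebra R ↑Γ(X', a ⁻¹ᵁ V) := ((algebraMap R' ↑Γ(X', a ⁻¹ᵁ V)).comp (algebraMap R R')).toAlgebra
  haveI : IsScalarTower R R' ↑Γ(X', a ⁻¹ᵁ V) := IsScalarTower.of_algebraMap_eq fun _ => rfl
  haveI : IsScalarTower R ↑Γ(X, V) ↑Γ(X', a ⁻¹ᵁ V) :=
    IsScalarTower.of_algebraMap_eq fun r => (W7Cech.secRing_comm R R' a sq V r).symm
  haveI := W7Cech.isAffineHom_bc R R' a sq
  have eV : V ≤ q ⁻¹ᵁ ⊤ := le_top
  have eO : (⊤ : (Spec (CommRingCat.of R')).Opens) ≤ Spec.map (CommRingCat.ofHom (algebraMap R R')) ⁻¹ᵁ ⊤ := le_top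
  have hUW : a ⁻¹ᵁ V = a ⁻¹ᵁ V ⊓ b ⁻¹ᵁ ⊤ := le_antisymm (le_inf le_rfl le_top) inf_le_left
  have hP := (isIso_pushoutSection_iff sq eO eV hUW).1
    (isIso_pushoutSection_of_isAffineOpen sq eO eV hUW (isAffineOpen_top _) (isAffineOpen_top _) hV)
  refine CommRingCat.isPushout_iff_isPushout.1 ?_
  refine IsPushout.of_iso hP.flip (Scheme.ΓSpecIso (CommRingCat.of R))
    (Scheme.ΓSpecIso (CommRingCat.of R')) (Iso.refl _) (Iso.refl _) ?_ ?_ ?_ ?_
  · change (Spec.map _).appLE ⊤ ⊤ eO ≫ _ = _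
    rw [show (Spec.map (CommRingCat.ofHom (algebraMap R R'))).appLE ⊤ ⊤ eO =
      (Spec.map (CommRingCat.ofHom (algebraMap R R'))).appTop from (Scheme.Hom.app_eq_appLE _).symm]
    exact Scheme.ΓSpecIso_naturality (CommRingCat.ofHom (algebraMap R R'))
  · rw [← cancel_epi (Scheme.ΓSpecIso (CommRingCat.of R)).inv]
    ext r
    simp only [Iso.refl_hom, Category.comp_id, Iso.inv_hom_id_assoc]
    rfl
  · rw [← cancel_epi (Scheme.ΓSpecIso (CommRingCat.of R')).inv]
    ext r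
    simp only [Iso.refl_hom, Category.comp_id, Iso.inv_hom_id_assoc]
    rfl
  · simp only [Iso.refl_hom, Category.comp_id, Category.id_comp]
    exact (a.app_eq_appLE).symm

/-- good opens cover the fibre inside `V` after base change to the étale neighbourhood -/
def CovOn (q : X ⟶ Spec (CommRingCat.of R)) (F : X.Modules) (R' : Type u) [CommRing R'] [Algebra R R']
    (p' : Ideal R') (V : X.Opens) : Prop :=
  ∀ (X' : Scheme.{u}) (a : X' ⟶ X) (b : X' ⟶ Spec (CommRingCat.of R')),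
    IsPullback a b q (Spec.map (CommRingCat.ofHom (algebraMap R R'))) →
    ∀ x : X', a x ∈ V → (b x).asIdeal = p' → ∃ W : X'.Opens, x ∈ W ∧ Good R' b ((Scheme.Modules.pullback a).obj F) W

theorem CovOn.baseChange [Coh.IsQCoh F] {R₁ R₂ : Type u} [CommRing R₁] [CommRing R₂] [Algebra R R₁] [Algebra R R₂]
    [Algebra R₁ R₂] [IsScalarTower R R₁ R₂] {p₁ : Ideal R₁} {p₂ : Ideal R₂}
    (hp : p₂.comap (algebraMap R₁ R₂) = p₁) {V : X.Opens} (h : CovOn q F R₁ p₁ V) : CovOn q F R₂ p₂ V := by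
  intro X₂ a b sq x hxV hx
  let h₁ := Spec.map (CommRingCat.ofHom (algebraMap R R₁))
  let h₂ := Spec.map (CommRingCat.ofHom (algebraMap R₁ R₂))
  have h12 : h₂ ≫ h₁ = Spec.map (CommRingCat.ofHom (algebraMap R R₂)) := by
    simp only [h₁, h₂, ← Spec.map_comp]
    congr 1
    ext r
    exact (IsScalarTower.algebraMap_apply R R₁ R₂ r).symm
  let c : X₂ ⟶ Limits.pullback q h₁ := pullback.lift a (b ≫ h₂) (by rw [Category.assoc, h12]; exact sq.w)
  have hc : c ≫ pullback.fst q h₁ = a := pullback.lift_fst _ _ _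
  have sq₂ : IsPullback c b (pullback.snd q h₁) h₂ :=
    IsPullback.of_right (by rw [hc, h12]; exact sq) (pullback.lift_snd _ _ _) (IsPullback.of_hasPullback q h₁)
  obtain ⟨W, hxW, hW⟩ := h _ _ _ (IsPullback.of_hasPullback q h₁) (c x)
    (by rw [← Scheme.Hom.comp_apply, hc]; exact hxV)
    (by rw [← Scheme.Hom.comp_apply, sq₂.w, Scheme.Hom.comp_apply, ← hp, ← hx]; rfl)
  haveI : Coh.IsQCoh ((Scheme.Modules.pullback (pullback.fst q h₁)).obj F) := QC.isQCoh_pullback _ ‹_›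
  exact ⟨c ⁻¹ᵁ W, hxW, (hW.pullback c b sq₂).congr ((ModDesc.trIso c (pullback.fst q h₁) hc).app F)⟩

variable (q F)

set_option maxHeartbeats 2000000 in
/-- one affine open -/
theorem exists_covOn [LocallyOfFinitePresentation q] [hq : Coh.IsQCoh F] (hF : CohB1.IsFP F)
    (hfl : FlatMod.IsFlatOver q F) {V : X.Opens} (hV : IsAffineOpen V) (p : Ideal R) [p.IsPrime] :
    ∃ (R' : Type u) (_ : CommRing R') (_ : Algebra R R') (p' : Ideal R') (_ : p'.IsPrime),
      FlatCA.IsEtaleNhd R R' p p' ∧ CovOn q F R' p' V := by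
  letI : X.Over (Spec (CommRingCat.of R)) := ⟨q⟩
  let S := ↑Γ(X, V)
  letI : Algebra R S := (W7Cech.secRing R V).toAlgebra
  letI : Module R Γ(F, V) := Module.compHom Γ(F, V) (W7Cech.secRing R V)
  haveI : IsScalarTower R S Γ(F, V) := IsScalarTower.of_algebraMap_smul fun _ _ => rfl
  let γ : R →+* ↑Γ(Spec (CommRingCat.of R), ⊤) := (Scheme.ΓSpecIso (CommRingCat.of R)).inv.hom
  have hγ : Function.Bijective γ := ConcreteCategory.bijective_of_isIso (Scheme.ΓSpecIso (CommRingCat.of R)).inv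
  have hsec : W7Cech.secRing R V = (q.appLE ⊤ V le_top).hom.comp γ := rfl
  haveI : Algebra.FinitePresentation R S := by
    refine ((RingHom.finitePresentation_algebraMap (A := R) (B := S)).1 ?_)
    change (W7Cech.secRing R V).FinitePresentation
    rw [hsec]
    exact (HasRingHomProperty.appLE @LocallyOfFinitePresentation q inferInstance ⟨⊤, isAffineOpen_top _⟩ ⟨V, hV⟩ le_top).comp
      (RingHom.FinitePresentation.of_bijective hγ)
  haveI : Module.FinitePresentation S Γ(F, V) := LocFree.finitePresentation_sections_of_isFP hq hF hV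
  haveI : Module.Flat R Γ(F, V) := by
    letI : Algebra R ↑Γ(Spec (CommRingCat.of R), ⊤) := γ.toAlgebra
    letI := FlatModB.secModule q F V ⊤ le_top
    haveI : IsScalarTower R ↑Γ(Spec (CommRingCat.of R), ⊤) Γ(F, V) := IsScalarTower.of_algebraMap_smul fun _ _ => rfl
    haveI : Module.Flat R ↑Γ(Spec (CommRingCat.of R), ⊤) :=
      Module.Flat.of_linearEquiv (LinearEquiv.ofBijective (Algebra.linearMap R ↑Γ(Spec (CommRingCat.of R), ⊤)) hγ).symm
    haveI := (FlatModB.flat_sections_iff q F hq hV (isAffineOpen_top _) le_top).2 fun x _ => hfl x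
    exact Module.Flat.trans R ↑Γ(Spec (CommRingCat.of R), ⊤) _
  obtain ⟨R', _, _, p', _, hn, m, h, hproj, hcov⟩ := RG.Loc.exists_common p Γ(F, V) fun Q _ hQ =>
    RG.Loc.projPiece_of_flat p Q hQ Γ(F, V)
      (InjFibre.flat_localized (R := R) (S := ↑Γ(X, V)) (M := Γ(F, V)) (M' := LocalizedModule Q.primeCompl Γ(F, V))
        Q.primeCompl (LocalizedModule.mkLinearMap Q.primeCompl Γ(F, V)))
  refine ⟨R', inferInstance, inferInstance, p', inferInstance, hn, fun X' a b sq x hxV hx => ?_⟩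
  letI : X'.Over (Spec (CommRingCat.of R')) := ⟨b⟩
  haveI := W7Cech.isAffineHom_bc R R' a sq
  have hV' : IsAffineOpen (a ⁻¹ᵁ V) := hV.preimage a
  letI : Algebra R' ↑Γ(X', a ⁻¹ᵁ V) := (W7Cech.secRing R' (a ⁻¹ᵁ V)).toAlgebra
  letI : Algebra S ↑Γ(X', a ⁻¹ᵁ V) := (a.app V).hom.toAlgebra
  letI : Algebra R ↑Γ(X', a ⁻¹ᵁ V) := ((algebraMap R' ↑Γ(X', a ⁻¹ᵁ V)).comp (algebraMap R R')).toAlgebra
  haveI : IsScalarTower R R' ↑Γ(X', a ⁻¹ᵁ V) := IsScalarTower.of_algebraMap_eq fun _ => rfl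
  haveI : IsScalarTower R S ↑Γ(X', a ⁻¹ᵁ V) :=
    IsScalarTower.of_algebraMap_eq fun r => (W7Cech.secRing_comm R R' a sq V r).symm
  haveI hpush : Algebra.IsPushout R R' S ↑Γ(X', a ⁻¹ᵁ V) := isPushout_sections a b sq hV
  let Ψ : R' ⊗[R] S ≃ₐ[R'] ↑Γ(X', a ⁻¹ᵁ V) := Algebra.IsPushout.equiv R R' S _
  let Q : Ideal (R' ⊗[R] S) := (hV'.primeIdealOf ⟨x, hxV⟩).asIdeal.comap Ψ.toAlgHom.toRingHom
  have hQ : Q.comap (algebraMap R' (R' ⊗[R] S)) = p' := by
    rw [← hx, ← comap_primeIdealOf hV' b hxV, Ideal.comap_comap]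
    congr 1
    exact Ψ.toAlgHom.comp_algebraMap
  obtain ⟨i, hi⟩ := hcov Q (Ideal.IsPrime.comap _) hQ
  let f := Ψ (h i)
  let W := X'.basicOpen f
  have hxW : x ∈ W := by
    rw [Scheme.mem_basicOpen X' f x (show x ∈ a ⁻¹ᵁ V from hxV)]
    letI := TopCat.Presheaf.algebra_section_stalk X'.presheaf (U := a ⁻¹ᵁ V) ⟨x, hxV⟩
    haveI := hV'.isLocalization_stalk ⟨x, hxV⟩
    exact IsLocalization.map_units (X'.presheaf.stalk x)
      (⟨f, hi⟩ : (hV'.primeIdealOf ⟨x, hxV⟩).asIdeal.primeCompl)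
  refine ⟨W, hxW, hV'.basicOpen f, ?_⟩
  have hWV : W ≤ a ⁻¹ᵁ V := X'.basicOpen_le f
  obtain ⟨Φ, -⟩ := ModDesc.exists_bijective_liftBaseChange a F hV (hV'.basicOpen f) hWV
  let A := R' ⊗[R] S
  let C := ↑Γ(X', W)
  letI : Algebra ↑Γ(X', a ⁻¹ᵁ V) C := (X'.presheaf.map (homOfLE hWV).op).hom.toAlgebra
  haveI : IsLocalization.Away f C := hV'.isLocalization_basicOpen f
  letI : Algebra A C := ((algebraMap ↑Γ(X', a ⁻¹ᵁ V) C).comp Ψ.toAlgHom.toRingHom).toAlgebra
  haveI : IsLocalization.Away (h i) C := by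
    have h2 := IsLocalization.isLocalization_of_base_ringEquiv (Submonoid.powers f) C Ψ.toRingEquiv.symm
    rw [Submonoid.map_powers] at h2
    have hf : Ψ.toRingEquiv.symm f = h i := Ψ.symm_apply_apply (h i)
    rw [hf] at h2
    exact h2
  letI : Algebra R' C := (W7Cech.secRing R' W).toAlgebra
  letI : Algebra S C := (a.appLE V W hWV).hom.toAlgebra
  haveI : IsScalarTower R' A C := IsScalarTower.of_algebraMap_eq fun r => by
    change W7Cech.secRing R' W r = (X'.presheaf.map (homOfLE hWV).op).hom (Ψ (algebraMap R' A r))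
    rw [Ψ.commutes]
    exact (W7Cech.resO_secRing R' hWV r).symm
  letI : Algebra S A := Algebra.TensorProduct.rightAlgebra
  haveI : IsScalarTower S A C := IsScalarTower.of_algebraMap_eq fun s => by
    change (a.appLE V W hWV).hom s = (X'.presheaf.map (homOfLE hWV).op).hom (Ψ ((1 : R') ⊗ₜ[R] s))
    rw [Algebra.IsPushout.equiv_tmul, map_one, one_mul]
    rfl
  let ε : Localization.Away (h i) ≃ₐ[A] C := IsLocalization.algEquiv (Submonoid.powers (h i)) _ _
  haveI := hproj i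
  let L : (Localization.Away (h i) ⊗[S] Γ(F, V)) ≃ₗ[R'] (C ⊗[S] Γ(F, V)) :=
    { TensorProduct.congr ((ε.restrictScalars S).toLinearEquiv) (LinearEquiv.refl S Γ(F, V)) with
      map_smul' := fun r z => by
        simp only [RingHom.id_apply]
        induction z using TensorProduct.induction_on with
        | zero => simp
        | tmul c n =>
          change ε (r • c) ⊗ₜ[S] n = r • (ε c ⊗ₜ[S] n)
          rw [show ε (r • c) = r • ε c from (ε.restrictScalars R').toLinearMap.map_smul r c]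
          rfl
        | add z w hz hw =>
          simp only [smul_add, AddHom.toFun_eq_coe, LinearMap.coe_toAddHom, LinearEquiv.coe_coe, map_add] at hz hw ⊢
          rw [hz, hw] }
  haveI : Module.Projective R' (C ⊗[S] Γ(F, V)) := Module.Projective.of_equiv L
  let Φ' : (C ⊗[S] Γ(F, V)) ≃ₗ[R'] ((W7Cech.secA R' W).obj ((Scheme.Modules.pullback a).obj F) : Type u) :=
    { toFun := fun z => (show (W7Cech.secA R' W).obj ((Scheme.Modules.pullback a).obj F) from Φ z)
      invFun := fun z => Φ.symm (show Γ((Scheme.Modules.pullback a).obj F, W) from z)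
      left_inv := fun z => Φ.symm_apply_apply z
      right_inv := fun z => Φ.apply_symm_apply _
      map_add' := fun z w => Φ.map_add z w
      map_smul' := fun r z => by
        have : r • z = (algebraMap R' C r) • z := (IsScalarTower.algebraMap_smul C r z).symm
        rw [this]
        exact Φ.map_smul _ _ }
  exact Module.Projective.of_equiv Φ'

/-- finitely many affine opens at once -/
theorem exists_covOn_finset [LocallyOfFinitePresentation q] [Coh.IsQCoh F] (hF : CohB1.IsFP F)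
    (hfl : FlatMod.IsFlatOver q F) (p : Ideal R) [p.IsPrime] (s : Finset X.affineOpens) :
    ∃ (R' : Type u) (_ : CommRing R') (_ : Algebra R R') (p' : Ideal R') (_ : p'.IsPrime),
      FlatCA.IsEtaleNhd R R' p p' ∧ ∀ V ∈ s, CovOn q F R' p' V.1 := by
  classical
  induction s using Finset.induction_on with
  | empty => exact ⟨R, inferInstance, inferInstance, p, inferInstance, RG.Pure.isEtaleNhd_self p, fun x hx => absurd hx (by simp)⟩
  | insert V s _ ih =>
    obtain ⟨R₀, _, _, p₀, _, hn₀, hs⟩ := ih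
    obtain ⟨R₁, _, _, p₁, _, hn₁, hV⟩ := exists_covOn q F hF hfl V.2 p
    have hc := RG.Loc.comap_of_isEtaleNhd hn₀
    subst hc
    obtain ⟨P, _, hnP, hP₁⟩ := RG.Loc.exists_nhd_baseChange (R := R₀) (R₀' := R₁) p₀ hn₁
    letI : Algebra R₁ (R₀ ⊗[R] R₁) := Algebra.TensorProduct.rightAlgebra
    refine ⟨R₀ ⊗[R] R₁, inferInstance, inferInstance, P, inferInstance, RG.Loc.isEtaleNhd_trans hn₀ hnP, fun W hW => ?_⟩
    rcases Finset.mem_insert.1 hW with rfl | hW
    · exact hV.baseChange hP₁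
    · exact (hs W hW).baseChange (RG.Loc.comap_of_isEtaleNhd hnP)

end Groth.Agent.VanLocus
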