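import Groth.Agent.VanLocus.Algebra
import Groth.Agent.VanLocus.Good
import Groth.Agent.ModDesc.Func
import Mathlib.RingTheory.Spectrum.Prime.Chevalley
import Mathlib.RingTheory.Etale.Basic

/-!
The vanishing ideal of a morphism to a flat finitely presented module on a proper scheme over a ring.
-/

set_option autoImplicit false
set_option backward.isDefEq.respectTransparency false
set_option backward.isDefEq.respectTransparency.types false
set_option linter.style.haveILetI false
set_option maxHeartbeats 1000000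

universe u

open CategoryTheory CategoryTheory.Limits AlgebraicGeometry TopologicalSpace Opposite
open Groth.Agent.QC (res resO res_res res_smul res_self app_res)
open scoped TensorProduct

noncomputable section

namespace Groth.Agent.VanLocus

theorem map_eq_zero_comp_iff {Z Y X : Scheme.{u}} (c : Z ⟶ Y) (a : Y ⟶ X) {r : Z ⟶ X} (w : c ≫ a = r)
    {G F : X.Modules} (σ : G ⟶ F) :
    (Scheme.Modules.pullback r).map σ = 0 ↔
      (Scheme.Modules.pullback c).map ((Scheme.Modules.pullback a).map σ) = 0 := by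
  have h := (ModDesc.trIso c a w).hom.naturality σ
  simp only [Functor.comp_map] at h
  constructor
  · intro h0
    rw [h0, comp_zero] at h
    rw [← cancel_mono ((ModDesc.trIso c a w).hom.app F), h, zero_comp]
  · intro h0
    rw [h0, zero_comp] at h
    rw [← cancel_epi ((ModDesc.trIso c a w).hom.app G), ← h, comp_zero]

section

variable {X : Scheme.{u}} {R : Type u} [CommRing R] (q : X ⟶ Spec (CommRingCat.of R)) {G F : X.Modules} (σ : G ⟶ F)
  {ι : Type*} {V : ι → X.Opens}

theorem secVan_mono {T T' : Type u} [CommRing T] [Algebra R T] [CommRing T'] [Algebra R T'] (e : T →ₐ[R] T')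
    (h : SecVan q σ V T) : SecVan q σ V T' := by
  intro i s
  letI : X.Over (Spec (CommRingCat.of R)) := ⟨q⟩
  have h1 := congrArg (e.toLinearMap.rTensor ((W7Cech.secA R (V i)).obj F : Type u)) (h i s)
  rw [LinearMap.rTensor_tmul, map_zero, AlgHom.toLinearMap_apply, map_one] at h1
  exact h1

theorem secVan_descend {T T' : Type u} [CommRing T] [Algebra R T] [CommRing T'] [Algebra R T'] (e : T →ₐ[R] T')
    (he : e.toRingHom.FaithfullyFlat) (h : SecVan q σ V T') : SecVan q σ V T := by
  intro i s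
  letI : X.Over (Spec (CommRingCat.of R)) := ⟨q⟩
  let N := ((W7Cech.secA R (V i)).obj F : Type u)
  letI : Algebra T T' := e.toRingHom.toAlgebra
  haveI : IsScalarTower R T T' := IsScalarTower.of_algebraMap_eq fun r => (e.commutes r).symm
  haveI : Module.FaithfullyFlat T T' := he
  refine Module.FaithfullyFlat.tensorProduct_mk_injective (A := T) (B := T') (T ⊗[R] N) ?_
  apply (TensorProduct.AlgebraTensorModule.cancelBaseChange R T T' T' N).injective
  simp only [TensorProduct.mk_apply, TensorProduct.AlgebraTensorModule.cancelBaseChange_tmul, one_smul, map_zero]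
  exact h i s

theorem secVan_of_idem {T : Type u} [CommRing T] [Algebra R T] {κ : Type*} [Fintype κ] (ε : κ → T)
    (hid : ∀ j, ε j * ε j = ε j) (hsum : ∑ j, ε j = 1)
    (h : ∀ j, SecVan q σ V (T ⧸ Ideal.span {1 - ε j})) : SecVan q σ V T := by
  intro i s
  letI : X.Over (Spec (CommRingCat.of R)) := ⟨q⟩
  let N := ((W7Cech.secA R (V i)).obj F : Type u)
  rw [← hsum, TensorProduct.sum_tmul]
  refine Finset.sum_eq_zero fun j _ => ?_
  let m : T →ₗ[R] T := LinearMap.mulLeft R (ε j)
  have hm : (Ideal.span {1 - ε j}).restrictScalars R ≤ LinearMap.ker m := by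
    intro t ht
    obtain ⟨u, rfl⟩ := Ideal.mem_span_singleton'.1 ht
    change ε j * (u * (1 - ε j)) = 0
    rw [mul_left_comm, mul_sub, mul_one, hid, sub_self, mul_zero]
  let μ : (T ⧸ Ideal.span {1 - ε j}) →ₗ[R] T :=
    ((Ideal.span {1 - ε j}).restrictScalars R).liftQ m hm
  have h1 := congrArg (μ.rTensor N) (h j i s)
  rw [LinearMap.rTensor_tmul, map_zero] at h1
  rw [show μ (1 : T ⧸ Ideal.span {1 - ε j}) = ε j from (mul_one _)] at h1
  exact h1

end

variable {X : Scheme.{u}} {R : Type u} [CommRing R] (q : X ⟶ Spec (CommRingCat.of R))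

/-- After an étale extension around a prime, good opens cover everything. -/
theorem exists_good_cover [IsProper q] [LocallyOfFinitePresentation q] {F : X.Modules} [hq : Coh.IsQCoh F]
    (hF : CohB1.IsFP F) (hfl : FlatMod.IsFlatOver q F) (p : Ideal R) [p.IsPrime] :
    ∃ (R' : Type u) (_ : CommRing R') (_ : Algebra R R'), Algebra.Etale R R' ∧
      (∃ p' : PrimeSpectrum R', p'.asIdeal.comap (algebraMap R R') = p) ∧
      ∀ x : ↑(Limits.pullback q (Spec.map (CommRingCat.ofHom (algebraMap R R')))), ∃ W,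
        x ∈ W ∧ Good R' (pullback.snd q (Spec.map (CommRingCat.ofHom (algebraMap R R'))))
          ((Scheme.Modules.pullback (pullback.fst q (Spec.map (CommRingCat.ofHom (algebraMap R R'))))).obj F) W := by
  haveI : CompactSpace X := QuasiCompact.compactSpace_of_compactSpace q
  obtain ⟨s, hs⟩ := isCompact_univ.elim_finite_subcover (fun V : X.affineOpens => (V.1 : Set X))
    (fun V => V.1.2) (fun x _ => by
      obtain ⟨V, hV, hxV, -⟩ := exists_isAffineOpen_mem_and_subset (X := X) (x := x) (U := ⊤) trivial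
      exact Set.mem_iUnion.2 ⟨⟨V, hV⟩, hxV⟩)
  obtain ⟨R₁, _, _, p₁, _, hn, hcov⟩ := exists_covOn_finset q F hF hfl p s
  let g₁ := Spec.map (CommRingCat.ofHom (algebraMap R R₁))
  let a₁ := pullback.fst q g₁
  let b₁ := pullback.snd q g₁
  let F₁ := (Scheme.Modules.pullback a₁).obj F
  let O : (Limits.pullback q g₁).Opens := sSup {W | Good R₁ b₁ F₁ W}
  have hO : ∀ x, (b₁ x).asIdeal = p₁ → x ∈ O := fun x hx => by
    obtain ⟨V, hV, hxV⟩ : ∃ V ∈ s, a₁ x ∈ V.1 := by simpa using hs (Set.mem_univ (a₁ x))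
    obtain ⟨W, hxW, hW⟩ := hcov V hV _ a₁ b₁ (IsPullback.of_hasPullback q g₁) x hxV hx
    exact Opens.mem_sSup.2 ⟨W, hW, hxW⟩
  have hcl : IsClosed (b₁.base '' (↑O : Set ↑(Limits.pullback q g₁))ᶜ) := b₁.isClosedMap _ O.2.isClosed_compl
  have hp₁ : (⟨p₁, ‹_›⟩ : PrimeSpectrum R₁) ∈ (b₁.base '' (↑O : Set ↑(Limits.pullback q g₁))ᶜ)ᶜ := by
    rintro ⟨x, hx, hxp⟩
    exact hx (hO x (congrArg PrimeSpectrum.asIdeal hxp))
  obtain ⟨_, ⟨f, rfl⟩, hpf, hf⟩ := PrimeSpectrum.isTopologicalBasis_basic_opens.exists_subset_of_mem_open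
    hp₁ hcl.isOpen_compl
  let R₂ := Localization.Away f
  haveI := hn.1
  haveI : Algebra.Etale R₁ R₂ := Algebra.Etale.of_isLocalizationAway f
  haveI : Algebra.Etale R R₂ := Algebra.Etale.comp R R₁ R₂
  refine ⟨R₂, inferInstance, inferInstance, inferInstance, ?_, fun x => ?_⟩
  · obtain ⟨p₂, hp₂⟩ : (⟨p₁, ‹_›⟩ : PrimeSpectrum R₁) ∈ Set.range (PrimeSpectrum.comap (algebraMap R₁ R₂)) := by
      rw [PrimeSpectrum.localization_away_comap_range R₂ f]
      exact hpf
    refine ⟨p₂, ?_⟩
    rw [IsScalarTower.algebraMap_eq R R₁ R₂, ← Ideal.comap_comap,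
      show p₂.asIdeal.comap (algebraMap R₁ R₂) = p₁ from congrArg PrimeSpectrum.asIdeal hp₂,
      RG.Loc.comap_of_isEtaleNhd hn]
  · let g₂ := Spec.map (CommRingCat.ofHom (algebraMap R R₂))
    let h₂ := Spec.map (CommRingCat.ofHom (algebraMap R₁ R₂))
    have h12 : h₂ ≫ g₁ = g₂ := by
      simp only [g₁, h₂, g₂, ← Spec.map_comp]
      congr 1
    let c : Limits.pullback q g₂ ⟶ Limits.pullback q g₁ :=
      pullback.lift (pullback.fst q g₂) (pullback.snd q g₂ ≫ h₂) (by rw [Category.assoc, h12]; exact pullback.condition)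
    have hc : c ≫ a₁ = pullback.fst q g₂ := pullback.lift_fst _ _ _
    have sq₂ : IsPullback c (pullback.snd q g₂) b₁ h₂ :=
      IsPullback.of_right (by rw [hc, h12]; exact IsPullback.of_hasPullback q g₂) (pullback.lift_snd _ _ _)
        (IsPullback.of_hasPullback q g₁)
    have hcx : b₁ (c x) ∈ (PrimeSpectrum.basicOpen f : Set (PrimeSpectrum R₁)) := by
      rw [← Scheme.Hom.comp_apply, sq₂.w, Scheme.Hom.comp_apply]
      exact (PrimeSpectrum.localization_away_comap_range R₂ f).le ⟨_, rfl⟩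
    have hxO : c x ∈ O := by
      by_contra h
      exact hf hcx ⟨c x, h, rfl⟩
    obtain ⟨W, hW, hxW⟩ := Opens.mem_sSup.1 hxO
    haveI : Coh.IsQCoh F₁ := QC.isQCoh_pullback _ hq
    exact ⟨c ⁻¹ᵁ W, hxW, (hW.pullback c _ sq₂).congr ((ModDesc.trIso c a₁ hc).app F)⟩

/-- the condition -/
def Van {G F : X.Modules} (σ : G ⟶ F) (T : Type u) [CommRing T] [Algebra R T] : Prop :=
  (Scheme.Modules.pullback (pullback.fst q (Spec.map (CommRingCat.ofHom (algebraMap R T))))).map σ = 0

variable {q}

theorem van_iff_of_isPullback {G F : X.Modules} [Coh.IsQCoh G] [Coh.IsQCoh F] (σ : G ⟶ F) (T : Type u) [CommRing T]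
    [Algebra R T] {X' : Scheme.{u}} (a : X' ⟶ X) (b : X' ⟶ Spec (CommRingCat.of T))
    (sq : IsPullback a b q (Spec.map (CommRingCat.ofHom (algebraMap R T)))) :
    Van q σ T ↔ (Scheme.Modules.pullback a).map σ = 0 := by
  have hcov : ∀ x : X, ∃ V : X.affineOpens, x ∈ V.1 := fun x => by
    obtain ⟨V, hV, hxV, -⟩ := exists_isAffineOpen_mem_and_subset (X := X) (x := x) (U := ⊤) trivial
    exact ⟨⟨V, hV⟩, hxV⟩
  exact (map_eq_zero_iff q σ (fun V : X.affineOpens => V.1) (fun V => V.2) hcov T _ _ (IsPullback.of_hasPullback _ _)).trans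
    (map_eq_zero_iff q σ (fun V : X.affineOpens => V.1) (fun V => V.2) hcov T a b sq).symm

variable (q)

/-- the ideal over a good cover -/
def goodIdeal {G F : X.Modules} (σ : G ⟶ F) {ι : Type*} (W : ι → X.Opens) : Ideal R :=
  letI : X.Over (Spec (CommRingCat.of R)) := ⟨q⟩
  ⨆ (i : ι) (s : Γ(G, W i)), content (R := R) (show ((W7Cech.secA R (W i)).obj F : Type u) from σ.app (W i) s)

theorem secVan_iff_goodIdeal {G F : X.Modules} (σ : G ⟶ F) {ι : Type*} (W : ι → X.Opens)
    (hW : ∀ i, Good R q F (W i)) (T : Type u) [CommRing T] [Algebra R T] :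
    SecVan q σ W T ↔ (goodIdeal q σ W).map (algebraMap R T) = ⊥ := by
  letI : X.Over (Spec (CommRingCat.of R)) := ⟨q⟩
  rw [goodIdeal, Ideal.map_iSup, iSup_eq_bot]
  refine forall_congr' fun i => ?_
  rw [Ideal.map_iSup, iSup_eq_bot]
  haveI := (hW i).2
  exact forall_congr' fun s => one_tmul_eq_zero_iff _ T

theorem isOpen_range_comap_of_etale {R' : Type u} [CommRing R'] [Algebra R R'] [Algebra.Etale R R'] :
    IsOpen (Set.range (PrimeSpectrum.comap (algebraMap R R'))) :=
  (PrimeSpectrum.isOpenMap_comap_of_hasGoingDown_of_finitePresentation (R := R) (S := R')).isOpen_range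

/-- **The vanishing ideal** over a ring. -/
theorem exists_ideal_affine [IsProper q] [LocallyOfFinitePresentation q] {G F : X.Modules} [hG : Coh.IsQCoh G]
    [hq : Coh.IsQCoh F] (hF : CohB1.IsFP F) (hfl : FlatMod.IsFlatOver q F) (σ : G ⟶ F) :
    ∃ I : Ideal R, ∀ (T : Type u) [CommRing T] [Algebra R T], Van q σ T ↔ I.map (algebraMap R T) = ⊥ := by
  classical
  choose R' iR iA het hp' hgood using fun p : PrimeSpectrum R =>
    exists_good_cover q hF hfl p.asIdeal
  obtain ⟨s, hs⟩ := (isCompact_univ (X := PrimeSpectrum R)).elim_finite_subcover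
    (fun p => @Set.range _ _ (@PrimeSpectrum.comap R (R' p) _ (iR p).toCommSemiring (algebraMap R (R' p))))
    (fun p => @isOpen_range_comap_of_etale R _ (R' p) (iR p) (iA p) (het p))
    (fun p _ => by
      obtain ⟨z, hz⟩ := hp' p
      exact Set.mem_iUnion.2 ⟨p, z, PrimeSpectrum.ext hz⟩)
  let κ := {p // p ∈ s}
  let Rt := ∀ j : κ, R' j.1
  letI : ∀ j : κ, CommRing (R' j.1) := fun j => iR j.1
  letI : ∀ j : κ, Algebra R (R' j.1) := fun j => iA j.1
  haveI : ∀ j : κ, Algebra.Etale R (R' j.1) := fun j => het j.1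
  haveI : Module.FaithfullyFlat R Rt := by
    refine Module.FaithfullyFlat.of_comap_surjective fun p => ?_
    obtain ⟨j, hj, z, hz⟩ : ∃ j ∈ s, ∃ z, PrimeSpectrum.comap (algebraMap R (R' j)) z = p := by
      simpa using hs (Set.mem_univ p)
    exact ⟨PrimeSpectrum.comap (Pi.evalRingHom (fun j : κ => R' j.1) ⟨j, hj⟩) z, by rw [← hz]; rfl⟩
  let gm := fun j : κ => Spec.map (CommRingCat.ofHom (algebraMap R (R' j.1)))
  let G' := fun j : κ => (Scheme.Modules.pullback (pullback.fst q (gm j))).obj G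
  choose W hxW hW using fun (j : κ) (x : ↑(Limits.pullback q (gm j))) => hgood j.1 x
  let σ' := fun j : κ => (Scheme.Modules.pullback (pullback.fst q (gm j))).map σ
  let I' : ∀ j : κ, Ideal (R' j.1) := fun j => goodIdeal (pullback.snd q (gm j)) (σ' j) (W j)
  have hXcov : ∀ x : X, ∃ V : X.affineOpens, x ∈ V.1 := fun x => by
    obtain ⟨V, hV, hxV, -⟩ := exists_isAffineOpen_mem_and_subset (X := X) (x := x) (U := ⊤) trivial
    exact ⟨⟨V, hV⟩, hxV⟩
  have hS : ∀ (T : Type u) [CommRing T] [Algebra R T],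
      Van q σ T ↔ SecVan q σ (fun V : X.affineOpens => V.1) T := fun T _ _ =>
    map_eq_zero_iff q σ _ (fun V => V.2) hXcov T _ _ (IsPullback.of_hasPullback _ _)
  refine exists_ideal (fun T _ _ => Van q σ T)
    (fun T T' _ _ _ _ e he h => (hS T).2 (secVan_descend q σ e he ((hS T').1 h)))
    (fun T T' _ _ _ _ e h => (hS T').2 (secVan_mono q σ e ((hS T).1 h)))
    (Ideal.pi I') fun T _ _ ψ => ?_
  let ε : κ → T := fun j => ψ (Pi.single j 1)
  have hid : ∀ j, ε j * ε j = ε j := fun j => by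
    simp only [ε, ← map_mul, ← Pi.single_mul, one_mul]
  have hsum : ∑ j, ε j = 1 := by
    simp only [ε, ← map_sum]
    rw [show (∑ j : κ, Pi.single j (1 : R' j.1)) = (1 : Rt) from Finset.univ_sum_single 1]
    exact map_one ψ
  let mkT : ∀ j, T →ₐ[R] T ⧸ Ideal.span {1 - ε j} := fun j => Ideal.Quotient.mkₐ R _
  have hsingle : ∀ (j : κ) (a : Rt), mkT j (ψ a) = mkT j (ψ (Pi.single j (a j))) := fun j a => by
    rw [← sub_eq_zero, ← map_sub, ← map_sub]
    have : a - Pi.single j (a j) = (1 - Pi.single j 1) * a := by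
      rw [sub_mul, one_mul]
      congr 1
      funext k
      rw [Pi.mul_apply]
      rcases eq_or_ne k j with rfl | hk
      · rw [Pi.single_eq_same, Pi.single_eq_same, one_mul]
      · rw [Pi.single_eq_of_ne hk, Pi.single_eq_of_ne hk, zero_mul]
    rw [this, map_mul, map_sub, map_one]
    exact Ideal.Quotient.eq_zero_iff_mem.2 (Ideal.mul_mem_right _ _ (Ideal.subset_span rfl))
  let ψj : ∀ j, R' j.1 →ₐ[R] T ⧸ Ideal.span {1 - ε j} := fun j =>
    { toFun := fun r => mkT j (ψ (Pi.single j r))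
      map_one' := (hsingle j 1).symm.trans ((congrArg (mkT j) (map_one ψ)).trans (map_one (mkT j)))
      map_mul' := fun r r' => by rw [← map_mul, ← map_mul, Pi.single_mul]
      map_zero' := by rw [Pi.single_zero, map_zero, map_zero]
      map_add' := fun r r' => by rw [← map_add, ← map_add, Pi.single_add]
      commutes' := fun r => by
        change mkT j (ψ (Pi.single j (algebraMap R Rt r j))) = _
        rw [← hsingle, ψ.commutes, AlgHom.commutes] }
  have hpiece : ∀ j, Van q σ (T ⧸ Ideal.span {1 - ε j}) ↔ (I' j).map (ψj j).toRingHom = ⊥ := fun j => by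
    letI : Algebra (R' j.1) (T ⧸ Ideal.span {1 - ε j}) := (ψj j).toRingHom.toAlgebra
    haveI : IsScalarTower R (R' j.1) (T ⧸ Ideal.span {1 - ε j}) :=
      IsScalarTower.of_algebraMap_eq fun r => ((ψj j).commutes r).symm
    let h := Spec.map (CommRingCat.ofHom (algebraMap (R' j.1) (T ⧸ Ideal.span {1 - ε j})))
    have hh : h ≫ gm j = Spec.map (CommRingCat.ofHom (algebraMap R (T ⧸ Ideal.span {1 - ε j}))) := by
      simp only [h, gm, ← Spec.map_comp]
      congr 1
      ext r
      exact (IsScalarTower.algebraMap_apply R (R' j.1) _ r).symm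
    haveI : Coh.IsQCoh ((Scheme.Modules.pullback (pullback.fst q (gm j))).obj G) := QC.isQCoh_pullback _ hG
    haveI : Coh.IsQCoh ((Scheme.Modules.pullback (pullback.fst q (gm j))).obj F) := QC.isQCoh_pullback _ hq
    refine ((van_iff_of_isPullback σ _ (pullback.fst _ h ≫ pullback.fst q (gm j)) (pullback.snd (pullback.snd q (gm j)) h)
      (hh ▸ (IsPullback.of_hasPullback (pullback.snd q (gm j)) h).paste_horiz (IsPullback.of_hasPullback q (gm j)))).trans
      (map_eq_zero_comp_iff _ _ rfl σ)).trans ?_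
    exact (map_eq_zero_iff (pullback.snd q (gm j)) (σ' j) (W j) (fun x => (hW j x).1) (fun x => ⟨x, hxW j x⟩) _ _ _
      (IsPullback.of_hasPullback _ h)).trans (secVan_iff_goodIdeal _ (σ' j) (W j) (hW j) _)
  constructor
  · intro h
    rw [Ideal.map_eq_bot_iff_le_ker]
    intro a ha
    rw [RingHom.mem_ker]
    change ψ a = 0
    rw [← mul_one (ψ a), ← hsum, Finset.mul_sum]
    refine Finset.sum_eq_zero fun j _ => ?_
    have h0 : mkT j (ψ a) = 0 := by
      rw [hsingle j a]
      exact (Ideal.map_eq_bot_iff_le_ker _).1 ((hpiece j).1 ((hS _).2 (secVan_mono q σ (mkT j) ((hS T).1 h)))) (ha j)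
    obtain ⟨u, hu⟩ := Ideal.mem_span_singleton'.1 (Ideal.Quotient.eq_zero_iff_mem.1 h0)
    rw [← hu, mul_assoc, sub_mul, one_mul, hid, sub_self, mul_zero]
  · intro h
    refine (hS T).2 (secVan_of_idem q σ ε hid hsum fun j => (hS _).1 ((hpiece j).2 ?_))
    rw [Ideal.map_eq_bot_iff_le_ker]
    intro r hr
    have hmem : Pi.single j r ∈ Ideal.pi I' := fun k => by
      rcases eq_or_ne k j with rfl | hk
      · rwa [Pi.single_eq_same]
      · rw [Pi.single_eq_of_ne hk]; exact Ideal.zero_mem _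
    change mkT j (ψ (Pi.single j r)) = 0
    rw [show ψ (Pi.single j r) = 0 from (Ideal.map_eq_bot_iff_le_ker _).1 h hmem, map_zero]

end Groth.Agent.VanLocus
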