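import Mathlib.RingTheory.RingHom.FaithfullyFlat
import Mathlib.RingTheory.TensorProduct.Quotient
import Mathlib.LinearAlgebra.FreeModule.Basic
import Mathlib.Algebra.Module.Projective

/-!
Contents of elements of projective modules, and faithfully flat descent of the ideal cutting out a
condition on algebras.
-/

set_option autoImplicit false
set_option linter.style.haveILetI false

universe u

open TensorProduct

noncomputable section

namespace Groth.Agent.VanLocus

variable {R : Type u} [CommRing R]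

/-- the values of all functionals at an element -/
def content {M : Type u} [AddCommGroup M] [Module R M] (x : M) : Ideal R :=
  LinearMap.range (LinearMap.applyₗ x : (M →ₗ[R] R) →ₗ[R] R)

theorem mem_content {M : Type u} [AddCommGroup M] [Module R M] (x : M) (φ : M →ₗ[R] R) : φ x ∈ content x :=
  ⟨φ, rfl⟩

theorem one_tmul_eq_zero_iff {M : Type u} [AddCommGroup M] [Module R M] [Module.Projective R M] (x : M)
    (T : Type u) [CommRing T] [Algebra R T] :
    (1 : T) ⊗ₜ[R] x = 0 ↔ (content x).map (algebraMap R T) = ⊥ := by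
  classical
  constructor
  · intro h
    rw [Ideal.map_eq_bot_iff_le_ker]
    rintro _ ⟨φ, rfl⟩
    have := congrArg ((TensorProduct.rid R T).toLinearMap ∘ₗ φ.lTensor T) h
    simp only [LinearMap.coe_comp, Function.comp_apply, LinearMap.lTensor_tmul, LinearEquiv.coe_coe,
      TensorProduct.rid_tmul, map_zero] at this
    rw [RingHom.mem_ker, Algebra.algebraMap_eq_smul_one]
    exact this
  · intro h
    obtain ⟨s, hs⟩ := Module.projective_def'.1 (inferInstance : Module.Projective R M)
    have hx : x = (s x).sum fun m c => c • m := by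
      rw [← Finsupp.linearCombination_apply R (v := fun m : M => m)]
      exact (LinearMap.congr_fun hs x).symm
    rw [hx, Finsupp.sum, TensorProduct.tmul_sum]
    refine Finset.sum_eq_zero fun m _ => ?_
    rw [← TensorProduct.smul_tmul, ← Algebra.algebraMap_eq_smul_one]
    have : algebraMap R T (s x m) = 0 := (Ideal.map_eq_bot_iff_le_ker (algebraMap R T)).1 h
      (mem_content x ((Finsupp.lapply m).comp s))
    rw [this, TensorProduct.zero_tmul]

/-- An ideal with descent datum descends. -/
theorem eq_map_comap {R' : Type u} [CommRing R'] [Algebra R R'] [Module.Flat R R'] (I' : Ideal R')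
    (h : I'.map (Algebra.TensorProduct.includeLeftRingHom : R' →+* R' ⊗[R] R') ≤
      I'.map (Algebra.TensorProduct.includeRight : R' →ₐ[R] R' ⊗[R] R').toRingHom) :
    I' = (I'.comap (algebraMap R R')).map (algebraMap R R') := by
  refine le_antisymm (fun x hx => ?_) Ideal.map_comap_le
  let I := I'.comap (algebraMap R R')
  let f : (R ⧸ I) →ₗ[R] R' ⧸ I' := (Ideal.quotientMapₐ I' (Algebra.ofId R R') le_rfl).toLinearMap
  have hf : Function.Injective f := Ideal.quotientMap_injective
  let Φ : R' ⊗[R] R' →ₐ[R] R' ⊗[R] (R' ⧸ I') := Algebra.TensorProduct.map (AlgHom.id R R') (Ideal.Quotient.mkₐ R I')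
  have hker : I'.map (Algebra.TensorProduct.includeRight : R' →ₐ[R] R' ⊗[R] R').toRingHom ≤ RingHom.ker Φ.toRingHom := by
    rw [Ideal.map_le_iff_le_comap]
    intro y hy
    show Φ ((1 : R') ⊗ₜ[R] y) = 0
    rw [Algebra.TensorProduct.map_tmul, Ideal.Quotient.mkₐ_eq_mk, Ideal.Quotient.eq_zero_iff_mem.2 hy,
      TensorProduct.tmul_zero]
  have h0 : f.lTensor R' (x ⊗ₜ[R] (1 : R ⧸ I)) = 0 := by
    have := hker (h (Ideal.mem_map_of_mem _ hx))
    rw [LinearMap.lTensor_tmul, show f 1 = 1 from map_one (Ideal.quotientMapₐ I' (Algebra.ofId R R') le_rfl)]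
    exact this
  have h1 : x ⊗ₜ[R] (1 : R ⧸ I) = 0 :=
    Module.Flat.lTensor_preserves_injective_linearMap f hf (by rw [h0, map_zero])
  let J := I.map (algebraMap R R')
  let ψ : R' ⊗[R] (R ⧸ I) →ₐ[R] R' ⧸ J := Algebra.TensorProduct.lift (Ideal.Quotient.mkₐ R J)
    (Ideal.quotientMapₐ J (Algebra.ofId R R') Ideal.le_comap_map) (fun _ _ => Commute.all _ _)
  have h2 := congrArg ψ h1
  rw [Algebra.TensorProduct.lift_tmul, map_zero, map_one, mul_one] at h2
  exact Ideal.Quotient.eq_zero_iff_mem.1 h2

/-- A condition on algebras cut out by an ideal after a faithfully flat extension is cut out by an ideal. -/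
theorem exists_ideal {R' : Type u} [CommRing R'] [Algebra R R'] [Module.FaithfullyFlat R R']
    (P : ∀ (T : Type u) [CommRing T] [Algebra R T], Prop)
    (hff : ∀ (T T' : Type u) [CommRing T] [Algebra R T] [CommRing T'] [Algebra R T'] (e : T →ₐ[R] T'),
      e.toRingHom.FaithfullyFlat → P T' → P T)
    (hmono : ∀ (T T' : Type u) [CommRing T] [Algebra R T] [CommRing T'] [Algebra R T'] (_ : T →ₐ[R] T'), P T → P T')
    (I' : Ideal R') (h' : ∀ (T : Type u) [CommRing T] [Algebra R T] (ψ : R' →ₐ[R] T), P T ↔ I'.map ψ.toRingHom = ⊥) :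
    ∃ I : Ideal R, ∀ (T : Type u) [CommRing T] [Algebra R T], P T ↔ I.map (algebraMap R T) = ⊥ := by
  let l : R' →ₐ[R] R' ⊗[R] R' := Algebra.TensorProduct.includeLeft
  let r : R' →ₐ[R] R' ⊗[R] R' := Algebra.TensorProduct.includeRight
  have hI : I'.map l.toRingHom ≤ I'.map r.toRingHom := by
    let K := I'.map r.toRingHom
    have hP : P ((R' ⊗[R] R') ⧸ K) := (h' _ ((Ideal.Quotient.mkₐ R K).comp r)).2 <| by
      rw [Ideal.map_eq_bot_iff_le_ker]
      exact fun y hy => Ideal.Quotient.eq_zero_iff_mem.2 (Ideal.mem_map_of_mem _ hy)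
    have h2 := (Ideal.map_eq_bot_iff_le_ker _).1 ((h' _ ((Ideal.Quotient.mkₐ R K).comp l)).1 hP)
    rw [Ideal.map_le_iff_le_comap]
    exact fun y hy => (Ideal.Quotient.eq_zero_iff_mem (I := K)).1 (h2 hy)
  refine ⟨I'.comap (algebraMap R R'), fun T _ _ => ?_⟩
  let e : T →ₐ[R] T ⊗[R] R' := Algebra.TensorProduct.includeLeft
  have he : e.toRingHom.FaithfullyFlat := RingHom.faithfullyFlat_algebraMap_iff.2
    (inferInstance : Module.FaithfullyFlat T (T ⊗[R] R'))
  have hinj : Function.Injective e.toRingHom := RingHom.FaithfullyFlat.injective he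
  let ψ : R' →ₐ[R] T ⊗[R] R' := Algebra.TensorProduct.includeRight
  calc P T ↔ P (T ⊗[R] R') := ⟨hmono _ _ e, hff _ _ e he⟩
    _ ↔ I'.map ψ.toRingHom = ⊥ := h' _ ψ
    _ ↔ ((I'.comap (algebraMap R R')).map (algebraMap R T)).map e.toRingHom = ⊥ := by
        conv_lhs => rw [eq_map_comap I' hI]
        rw [Ideal.map_map, Ideal.map_map, show ψ.toRingHom.comp (algebraMap R R') = e.toRingHom.comp (algebraMap R T) from
          ψ.comp_algebraMap.trans e.comp_algebraMap.symm]
    _ ↔ _ := Ideal.map_eq_bot_iff_of_injective hinj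

end Groth.Agent.VanLocus
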