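import Groth.Agent.W7Cech.BCSec
import Groth.Agent.ModDesc.Iso
import Groth.Agent.QC.PullSect

/-!
When does a morphism of quasi-coherent modules vanish after an affine base change.
-/

set_option autoImplicit false
set_option backward.isDefEq.respectTransparency false
set_option backward.isDefEq.respectTransparency.types false
set_option linter.style.haveILetI false

universe u

open CategoryTheory CategoryTheory.Limits AlgebraicGeometry TopologicalSpace Opposite
open Groth.Agent.QC (res res_res res_smul res_self app_res)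
open scoped TensorProduct

noncomputable section

namespace Groth.Agent.VanLocus

variable {X X' : Scheme.{u}}

/-- A morphism vanishing on the sections over the members of an affine cover is zero. -/
theorem hom_eq_zero_of_cover {M N : X.Modules} [Coh.IsQCoh M] (f : M ⟶ N) {ι : Type*} (U : ι → X.Opens)
    (hU : ∀ i, IsAffineOpen (U i)) (hcov : ∀ x, ∃ i, x ∈ U i) (h : ∀ i (m : Γ(M, U i)), f.app (U i) m = 0) :
    f = 0 := Scheme.Modules.hom_ext _ _ fun V => by
  ext s
  refine QC.section_eq_of_locally fun x hx => ?_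
  obtain ⟨i, hi⟩ := hcov x
  refine ⟨V ⊓ U i, inf_le_left, ⟨hx, hi⟩, ?_⟩
  refine (app_res f (inf_le_left : V ⊓ U i ≤ V) s).trans (Eq.trans ?_ (app_res 0 (inf_le_left : V ⊓ U i ≤ V) s).symm)
  exact ModDesc.Fam.eq_of_agree (hU i) (ModDesc.Fam.ofHom f (U i)) (ModDesc.Fam.ofHom (0 : M ⟶ N) (U i)) le_rfl le_rfl Set.univ
    Submodule.span_univ (fun n _ => h i n) _ inf_le_right _

variable {R : Type u} [CommRing R] (q : X ⟶ Spec (CommRingCat.of R)) {G F : X.Modules} (σ : G ⟶ F)

/-- the sections over the members of a family vanish after extension to `T` -/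
def SecVan {ι : Type*} (V : ι → X.Opens) (T : Type u) [CommRing T] [Algebra R T] : Prop :=
  letI : X.Over (Spec (CommRingCat.of R)) := ⟨q⟩
  ∀ i, ∀ s : Γ(G, V i), (1 : T) ⊗ₜ[R] (show ((W7Cech.secA R (V i)).obj F : Type u) from σ.app (V i) s) = 0

/-- the criterion -/
theorem map_eq_zero_iff [hG : Coh.IsQCoh G] [hF : Coh.IsQCoh F] {ι : Type*} (V : ι → X.Opens)
    (hV : ∀ i, IsAffineOpen (V i)) (hcov : ∀ x, ∃ i, x ∈ V i) (T : Type u) [CommRing T] [Algebra R T]
    (a : X' ⟶ X) (b : X' ⟶ Spec (CommRingCat.of T))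
    (sq : IsPullback a b q (Spec.map (CommRingCat.ofHom (algebraMap R T)))) :
    (Scheme.Modules.pullback a).map σ = 0 ↔ SecVan q σ V T := by
  letI : X.Over (Spec (CommRingCat.of R)) := ⟨q⟩
  letI : X'.Over (Spec (CommRingCat.of T)) := ⟨b⟩
  haveI := W7Cech.isAffineHom_bc R T a sq
  have key : ∀ i (x : Γ(F, V i)), (1 : T) ⊗ₜ[R] (show ((W7Cech.secA R (V i)).obj F : Type u) from x) = 0 ↔
      OmegaSh.pullSect a F (V i) x = 0 := fun i x => by
    letI := Module.compHom (((W7Cech.secA T (a ⁻¹ᵁ V i)).obj ((Scheme.Modules.pullback a).obj F) : ModuleCat.{u} T) : Type u)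
      (algebraMap R T)
    haveI : IsScalarTower R T (((W7Cech.secA T (a ⁻¹ᵁ V i)).obj ((Scheme.Modules.pullback a).obj F) : ModuleCat.{u} T) : Type u) :=
      IsScalarTower.of_algebraMap_smul fun _ _ => rfl
    have h := W7Cech.isBaseChange_pullSec R T a sq hF (hV i)
    refine h.equiv.map_eq_zero_iff.symm.trans ?_
    rw [IsBaseChange.equiv_tmul, one_smul]
    rfl
  constructor
  · intro h i s
    refine (key i _).2 ?_
    rw [← QC.app_pullSect a σ (V i) s, h]
    rfl
  · intro h
    haveI : Coh.IsQCoh ((Scheme.Modules.pullback a).obj G) := QC.isQCoh_pullback a hG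
    refine hom_eq_zero_of_cover _ (fun i => a ⁻¹ᵁ V i) (fun i => (hV i).preimage a) (fun x => hcov (a x)) fun i m => ?_
    letI := Module.compHom (((W7Cech.secA T (a ⁻¹ᵁ V i)).obj ((Scheme.Modules.pullback a).obj G) : ModuleCat.{u} T) : Type u)
      (algebraMap R T)
    haveI : IsScalarTower R T (((W7Cech.secA T (a ⁻¹ᵁ V i)).obj ((Scheme.Modules.pullback a).obj G) : ModuleCat.{u} T) : Type u) :=
      IsScalarTower.of_algebraMap_smul fun _ _ => rfl
    let L := ((W7Cech.secA T (a ⁻¹ᵁ V i)).map ((Scheme.Modules.pullback a).map σ)).hom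
    suffices hL : L (show ((W7Cech.secA T (a ⁻¹ᵁ V i)).obj ((Scheme.Modules.pullback a).obj G) : Type u) from m) = 0 from hL
    refine IsBaseChange.inductionOn (W7Cech.isBaseChange_pullSec R T a sq hG (hV i)) (motive := fun z => L z = 0) _
      (map_zero L) (fun s => ?_) (fun c z hz => by rw [map_smul, hz, smul_zero])
      (fun z z' hz hz' => by rw [map_add, hz, hz', add_zero])
    exact (QC.app_pullSect a σ (V i) s).trans ((key i _).1 (h i s))

end Groth.Agent.VanLocus
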